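import Groth.Prelude.Def_FGA
import Groth.Prelude.Def_EGA4b
import Groth.Agent.Ega3B.ProjProper
import Groth.Agent.Neron.K491.Closure
import Groth.Agent.Dix.FlatMonoStalk
import Groth.Agent.Models2.CodimStalk
import Groth.Agent.CalgA.RegBasic
import Groth.Agent.S0549

/-!
# The closure of a regular projective curve over the generic point of a regular excellent curve

`exists_regular_closure`: flat, regular and of dimension at most two over a nonempty open part of the base.
-/

set_option autoImplicit false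
universe u

open CategoryTheory CategoryTheory.Limits AlgebraicGeometry TopologicalSpace IsLocalRing

namespace K268.RegClos

open Groth.Agent

/-! ### the regular locus (adapted from `Models.RMOpen`) -/

theorem stalk_iff {A : Type u} [CommRing A] (w : Spec (CommRingCat.of A)) :
    IsRegularLocalRing ((Spec (CommRingCat.of A)).presheaf.stalk w) ↔
      IsRegularLocalRing (Localization.AtPrime w.asIdeal) := by
  have e : ((Spec (CommRingCat.of A)).presheaf.stalk w) ≃+* Localization.AtPrime w.asIdeal :=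
    (Spec.stalkIso (CommRingCat.of A) w).commRingCatIsoToRingEquiv
  exact ⟨fun _ => IsRegularLocalRing.of_ringEquiv e, fun _ => IsRegularLocalRing.of_ringEquiv e.symm⟩

theorem stalk_openImmersion_iff {X Y : Scheme.{u}} (j : Y ⟶ X) [IsOpenImmersion j] (y : Y) :
    IsRegularLocalRing (X.presheaf.stalk (j y)) ↔ IsRegularLocalRing (Y.presheaf.stalk y) := by
  have e : (X.presheaf.stalk (j y)) ≃+* Y.presheaf.stalk y :=
    (asIso (j.stalkMap y)).commRingCatIsoToRingEquiv
  exact ⟨fun _ => IsRegularLocalRing.of_ringEquiv e, fun _ => IsRegularLocalRing.of_ringEquiv e.symm⟩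

theorem isOpen_reg_of_isJ2 {R : Type u} [CommRing R] (hR : EGA4.IsJ2 R)
    {X : Scheme.{u}} (p : X ⟶ Spec (CommRingCat.of R)) [LocallyOfFiniteType p] :
    IsOpen {x : X | IsRegularLocalRing (X.presheaf.stalk x)} := by
  rw [isOpen_iff_forall_mem_open]
  intro x hx
  obtain ⟨_, ⟨U, hU, rfl⟩, hxU, -⟩ :=
    X.isBasis_affineOpens.exists_subset_of_mem_open (Set.mem_univ x) isOpen_univ
  let ψ : R →+* Γ(X, U) :=
    (p.appLE ⊤ U le_top).hom.comp (Scheme.ΓSpecIso (CommRingCat.of R)).inv.hom
  have h1 : (p.appLE ⊤ U le_top).hom.FiniteType :=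
    LocallyOfFiniteType.finiteType_appLE (f := p) (isAffineOpen_top _) hU le_top
  have hψ : ψ.FiniteType := by
    refine RingHom.FiniteType.comp h1 ?_
    exact RingHom.FiniteType.of_surjective _
      (ConcreteCategory.bijective_of_isIso (Scheme.ΓSpecIso (CommRingCat.of R)).inv).2
  let _ : Algebra R Γ(X, U) := ψ.toAlgebra
  have ho : IsOpen (EGA4.regLocus Γ(X, U)) := hR Γ(X, U) hψ
  have hiff : ∀ q : Spec (CommRingCat.of Γ(X, U)), IsRegularLocalRing (X.presheaf.stalk (hU.fromSpec q)) ↔
      q ∈ EGA4.regLocus Γ(X, U) := fun q =>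
    (stalk_openImmersion_iff hU.fromSpec q).trans (stalk_iff (A := Γ(X, U)) q)
  refine ⟨hU.fromSpec '' (EGA4.regLocus Γ(X, U)), ?_, hU.fromSpec.isOpenEmbedding.isOpenMap _ ho, ?_⟩
  · rintro _ ⟨q, hq, rfl⟩
    exact (hiff q).2 hq
  · have h2 : x ∈ Set.range hU.fromSpec := by
      rw [hU.range_fromSpec]
      exact hxU
    obtain ⟨q, rfl⟩ := h2
    exact ⟨q, (hiff q).1 hx, rfl⟩

theorem isOpen_reg {V Y : Scheme.{u}} (hexc : ∀ U : V.affineOpens, EGA4.IsExcellent Γ(V, U)) (h : Y ⟶ V)
    [LocallyOfFiniteType h] : IsOpen {y : Y | IsRegularLocalRing (Y.presheaf.stalk y)} := by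
  rw [isOpen_iff_forall_mem_open]
  intro y hy
  obtain ⟨_, ⟨U, hU, rfl⟩, hyU, -⟩ :=
    V.isBasis_affineOpens.exists_subset_of_mem_open (Set.mem_univ (h y)) isOpen_univ
  have ho := isOpen_reg_of_isJ2 (hexc ⟨U, hU⟩).2.2.2 ((h ∣_ U) ≫ hU.isoSpec.hom)
  refine ⟨(h ⁻¹ᵁ U).ι '' {z | IsRegularLocalRing ((h ⁻¹ᵁ U).toScheme.presheaf.stalk z)}, ?_,
    (h ⁻¹ᵁ U).ι.isOpenEmbedding.isOpenMap _ ho, ?_⟩
  · rintro _ ⟨q, hq, rfl⟩
    exact (stalk_openImmersion_iff (h ⁻¹ᵁ U).ι q).2 hq
  · exact ⟨⟨y, hyU⟩, (stalk_openImmersion_iff (h ⁻¹ᵁ U).ι ⟨y, hyU⟩).1 hy, rfl⟩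

/-! ### dimensions (adapted from `Models.RMSing`) -/

theorem exists_mem_forall_notMem {A : Type*} [CommRing A] [IsLocalRing A] (S : Set (Ideal A))
    (hS : S.Finite) (hp : ∀ P ∈ S, P.IsPrime ∧ P ≠ maximalIdeal A) :
    ∃ a ∈ maximalIdeal A, ∀ P ∈ S, a ∉ P := by
  by_contra! h
  have h1 : (maximalIdeal A : Set A) ⊆ ⋃ P ∈ S, (id P : Ideal A) := by
    intro a ha
    obtain ⟨P, hP, haP⟩ := h a ha
    simp only [Set.mem_iUnion]
    exact ⟨P, hP, haP⟩
  obtain ⟨P, hPS, hP⟩ := (Ideal.subset_union_prime_finite hS (maximalIdeal A) (maximalIdeal A)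
    (fun P hP _ _ => (hp P hP).1)).mp h1
  exact (hp P hPS).2 ((IsLocalRing.le_maximalIdeal (hp P hPS).1.ne_top).antisymm hP)

/-- A Noetherian local domain in which all primes not containing a nonzero element of the maximal ideal
have height at most one has dimension at most two. -/
theorem ringKrullDim_le_two {A : Type*} [CommRing A] [IsLocalRing A] [IsNoetherianRing A] [IsDomain A]
    (π : A) (hπ : π ≠ 0) (hπm : π ∈ maximalIdeal A)
    (h : ∀ q : Ideal A, q.IsPrime → π ∉ q → q.height ≤ 1) : ringKrullDim A ≤ 2 := by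
  rw [← IsLocalRing.maximalIdeal_height_eq_ringKrullDim]
  have hgoal : (maximalIdeal A).height ≤ 2 := by
    by_contra! hlt
    have key1 : ∀ (P : Ideal A), P.IsPrime → P ≠ ⊥ → 1 ≤ P.height := by
      intro P hP hne
      have h1 : (⊥ : Ideal A) < P := bot_lt_iff_ne_bot.mpr hne
      have h2 := Ideal.height_add_one_le_of_lt_of_isPrime h1
      exact le_trans (by simp) h2
    have key2 : ∀ (P Q : Ideal A), P.IsPrime → Q.IsPrime → P < Q → P.height + 1 ≤ Q.height :=
      fun P Q hP hQ hPQ => Ideal.height_add_one_le_of_lt_of_isPrime hPQ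
    -- first element
    have hfin1 : (Ideal.span {π}).minimalPrimes.Finite := Ideal.finite_minimalPrimes_of_isNoetherianRing A _
    obtain ⟨a, ham, ha⟩ := exists_mem_forall_notMem (Ideal.span {π}).minimalPrimes hfin1
      (fun P hP => ⟨hP.1.1, fun he => by
        have h1 : P.height ≤ 1 := Ideal.height_le_one_of_isPrincipal_of_mem_minimalPrimes (Ideal.span {π}) P hP
        rw [he] at h1
        exact absurd (h1.trans (by norm_num : (1 : ℕ∞) ≤ 2)) (not_le.mpr hlt)⟩)
    have ha0 : a ≠ 0 := by
      rintro rfl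
      obtain ⟨P, hP, -⟩ := Ideal.exists_minimalPrimes_le (I := Ideal.span {π}) (J := maximalIdeal A)
        ((Ideal.span_singleton_le_iff_mem _).mpr hπm)
      exact ha P hP P.zero_mem
    have hfin2 : ((Ideal.span {π, a}).minimalPrimes ∪ (Ideal.span {a}).minimalPrimes).Finite :=
      (Ideal.finite_minimalPrimes_of_isNoetherianRing A _).union
        (Ideal.finite_minimalPrimes_of_isNoetherianRing A _)
    have hcard2 : ∀ (x y : A) (P : Ideal A), P ∈ (Ideal.span {x, y}).minimalPrimes → P.height ≤ 2 := by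
      classical
      intro x y P hP
      have h1 : P ∈ (Ideal.span (({x, y} : Finset A) : Set A)).minimalPrimes := by
        simpa using hP
      have h2 := Ideal.height_le_card_of_mem_minimalPrimes_span_finset h1
      have h3 : (({x, y} : Finset A).card : ℕ∞) ≤ 2 := by exact_mod_cast Finset.card_le_two
      exact h2.trans h3
    obtain ⟨b, hbm, hb⟩ := exists_mem_forall_notMem _ hfin2 (by
      rintro P (hP | hP)
      · refine ⟨hP.1.1, fun he => ?_⟩
        have h1 := hcard2 _ _ P hP
        rw [he] at h1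
        exact absurd h1 (not_le.mpr hlt)
      · refine ⟨hP.1.1, fun he => ?_⟩
        have h1 : P.height ≤ 1 := Ideal.height_le_one_of_isPrincipal_of_mem_minimalPrimes (Ideal.span {a}) P hP
        rw [he] at h1
        exact absurd (h1.trans (by norm_num : (1 : ℕ∞) ≤ 2)) (not_le.mpr hlt))
    obtain ⟨q, hq, -⟩ := Ideal.exists_minimalPrimes_le (I := Ideal.span {a, b}) (J := maximalIdeal A)
      (by
        rw [Ideal.span_le]
        rintro x (rfl | rfl)
        · exact ham
        · exact hbm)
    have hqp : q.IsPrime := hq.1.1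
    have haq : a ∈ q := hq.1.2 (Ideal.subset_span (by simp))
    have hbq : b ∈ q := hq.1.2 (Ideal.subset_span (by simp))
    have hq2 : q.height ≤ 2 := hcard2 _ _ q hq
    by_cases hπq : π ∈ q
    · obtain ⟨P2, hP2, hP2q⟩ := Ideal.exists_minimalPrimes_le (I := Ideal.span {π, a}) (J := q)
        (by
          rw [Ideal.span_le]
          rintro x (rfl | rfl)
          · exact hπq
          · exact haq)
      have hP2p : P2.IsPrime := hP2.1.1
      have hlt2 : P2 < q := lt_of_le_of_ne hP2q (fun he => hb P2 (Or.inl hP2) (he ▸ hbq))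
      have hπP2 : π ∈ P2 := hP2.1.2 (Ideal.subset_span (by simp))
      have haP2 : a ∈ P2 := hP2.1.2 (Ideal.subset_span (by simp))
      obtain ⟨P1, hP1, hP1P2⟩ := Ideal.exists_minimalPrimes_le (I := Ideal.span {π}) (J := P2)
        ((Ideal.span_singleton_le_iff_mem _).mpr hπP2)
      have hP1p : P1.IsPrime := hP1.1.1
      have hlt1 : P1 < P2 := lt_of_le_of_ne hP1P2 (fun he => ha P1 hP1 (he ▸ haP2))
      have h1 : 1 ≤ P1.height := key1 P1 hP1p (fun he => by
        have : π ∈ P1 := hP1.1.2 (Ideal.mem_span_singleton_self π)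
        rw [he] at this
        exact hπ this)
      have h2 := key2 P1 P2 hP1p hP2p hlt1
      have h3 := key2 P2 q hP2p hqp hlt2
      have h4 : (3 : ℕ∞) ≤ q.height := by
        calc (3 : ℕ∞) = 1 + 1 + 1 := by norm_num
          _ ≤ P1.height + 1 + 1 := by gcongr
          _ ≤ P2.height + 1 := by gcongr
          _ ≤ q.height := h3
      exact absurd (h4.trans hq2) (by norm_num)
    · have hq1 := h q hqp hπq
      obtain ⟨P, hP, hPq⟩ := Ideal.exists_minimalPrimes_le (I := Ideal.span {a}) (J := q)
        ((Ideal.span_singleton_le_iff_mem _).mpr haq)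
      have hPp : P.IsPrime := hP.1.1
      have hlt1 : P < q := lt_of_le_of_ne hPq (fun he => hb P (Or.inr hP) (he ▸ hbq))
      have h1 : 1 ≤ P.height := key1 P hPp (fun he => by
        have : a ∈ P := hP.1.2 (Ideal.mem_span_singleton_self a)
        rw [he] at this
        exact ha0 this)
      have h2 := key2 P q hPp hqp hlt1
      have h3 : (2 : ℕ∞) ≤ q.height := by
        calc (2 : ℕ∞) = 1 + 1 := by norm_num
          _ ≤ P.height + 1 := by gcongr
          _ ≤ q.height := h2
      exact absurd (h3.trans hq1) (by norm_num)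
  exact WithBot.coe_le_coe.mpr hgoal

/-- The codimension does not decrease along the map from the spectrum of a local ring. -/
theorem height_le_ringKrullDim_stalk {X : Scheme.{u}} (x : X) (q : Spec (X.presheaf.stalk x)) :
    (q.asIdeal.height : WithBot ℕ∞) ≤ ringKrullDim (X.presheaf.stalk (X.fromSpecStalk x q)) := by
  have h1 : ringKrullDim ((Spec (X.presheaf.stalk x)).presheaf.stalk q) = (q.asIdeal.height : WithBot ℕ∞) := by
    rw [ringKrullDim_eq_of_ringEquiv (Spec.stalkIso (X.presheaf.stalk x) q).commRingCatIsoToRingEquiv]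
    exact IsLocalization.AtPrime.ringKrullDim_eq_height q.asIdeal (Localization.AtPrime q.asIdeal)
  rw [← h1, ringKrullDim_stalk_eq_coheight, ringKrullDim_stalk_eq_coheight]
  have hemb := (X.fromSpecStalk x).isEmbedding
  have hmono : StrictMono (X.fromSpecStalk x) := by
    intro a b hab
    refine lt_of_le_not_ge ?_ ?_
    · exact (show b ⤳ a from hab.le).map (X.fromSpecStalk x).continuous
    · intro h
      exact hab.not_ge (hemb.isInducing.specializes_iff.mp (show X.fromSpecStalk x a ⤳ X.fromSpecStalk x b from h))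
  exact WithBot.coe_le_coe.mpr (Order.coheight_le_coheight_apply_of_strictMono _ hmono q)

/-- the local rings of a regular scheme all of whose components have dimension one -/
theorem stalk_le_one {X : Scheme.{u}} (hX : ∀ x : X, IsRegularLocalRing (X.presheaf.stalk x))
    (hdim : ∀ W ∈ irreducibleComponents (X : Type u), topologicalKrullDim W = 1) (x : X) :
    ringKrullDim (X.presheaf.stalk x) ≤ 1 := by
  have := hX x
  have : IsDomain (X.presheaf.stalk x) := Groth.Agent.S0558.result _
  have hirr : IsIrreducible (Set.range (X.fromSpecStalk x)) := by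
    rw [← Set.image_univ]
    exact (IrreducibleSpace.isIrreducible_univ _).image _ (X.fromSpecStalk x).continuous.continuousOn
  obtain ⟨W, hW, hsub⟩ := exists_mem_irreducibleComponents_subset_of_isIrreducible _ hirr
  rw [← PrimeSpectrum.topologicalKrullDim_eq_ringKrullDim, ← hdim W hW]
  have h1 : Topology.IsInducing (Set.codRestrict (X.fromSpecStalk x) W (fun y => hsub ⟨y, rfl⟩)) :=
    (X.fromSpecStalk x).isEmbedding.isInducing.codRestrict _
  exact h1.topologicalKrullDim_le


theorem flat_fromSpecStalk (X : Scheme.{u}) (x : X) : Flat (X.fromSpecStalk x) := by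
  obtain ⟨_, ⟨U, hU, rfl⟩, hx, -⟩ :=
    X.isBasis_affineOpens.exists_subset_of_mem_open (Set.mem_univ x) isOpen_univ
  have h : Flat (Spec.map (X.presheaf.germ U x hx)) := by
    rw [Flat.SpecMap_iff]
    let _ : Algebra Γ(X, U) (X.presheaf.stalk x) := (X.presheaf.germ U x hx).hom.toAlgebra
    have := hU.isLocalization_stalk ⟨x, hx⟩
    exact IsLocalization.flat (X.presheaf.stalk x) (hU.primeIdealOf ⟨x, hx⟩).asIdeal.primeCompl
  rw [← hU.fromSpecStalk_eq_fromSpecStalk hx]
  have : IsOpenImmersion hU.fromSpec := hU.isOpenImmersion_fromSpec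
  have : Flat hU.fromSpec := inferInstance
  exact MorphismProperty.comp_mem @Flat _ _ h this

/-! ### the base -/

/-- affine sections of a regular Noetherian integral scheme of dimension at most one form a Dedekind domain -/
theorem isDedekindDomain {V : Scheme.{u}} [IsIntegral V] [IsNoetherian V]
    (hreg : ∀ s : V, IsRegularLocalRing (V.presheaf.stalk s)) (hdimV : topologicalKrullDim V ≤ 1)
    {U : V.Opens} (hU : IsAffineOpen U) [Nonempty U] : IsDedekindDomain Γ(V, U) := by
  have hN : IsNoetherianRing Γ(V, U) := IsLocallyNoetherian.component_noetherian ⟨U, hU⟩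
  have hD : IsDedekindDomainDvr Γ(V, U) := by
    refine { is_dvr_at_nonzero_prime := ?_ }
    intro p hp hpp
    let y : PrimeSpectrum Γ(V, U) := ⟨p, hpp⟩
    have hy : hU.fromSpec y ∈ U := by
      rw [← SetLike.mem_coe, ← hU.range_fromSpec]; exact ⟨y, rfl⟩
    let _ := TopCat.Presheaf.algebra_section_stalk V.presheaf ⟨hU.fromSpec y, hy⟩
    have hl : IsLocalization.AtPrime (V.presheaf.stalk (hU.fromSpec y)) p :=
      hU.isLocalization_stalk' y hy
    have hnf := IsLocalization.AtPrime.not_isField Γ(V, U) hp (V.presheaf.stalk (hU.fromSpec y))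
    have hr := hreg (hU.fromSpec y)
    have h1 : IsDiscreteValuationRing (V.presheaf.stalk (hU.fromSpec y)) := by
      have hd : ringKrullDim (V.presheaf.stalk (hU.fromSpec y)) ≤ 1 :=
        (Groth.Agent.Models2.CodimStalk.ringKrullDim_stalk_le V _).trans hdimV
      have hd' : ¬ ringKrullDim (V.presheaf.stalk (hU.fromSpec y)) ≤ 0 := fun h0 => by
        have : Ring.KrullDimLE 0 (V.presheaf.stalk (hU.fromSpec y)) := Ring.krullDimLE_iff.mpr h0
        exact hnf Ring.KrullDimLE.isField_of_isDomain
      have hd2 : ringKrullDim (V.presheaf.stalk (hU.fromSpec y)) = 1 := by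
        refine le_antisymm hd ?_
        by_contra hlt
        apply hd'
        have h3 := not_le.mp hlt
        match h5 : ringKrullDim (V.presheaf.stalk (hU.fromSpec y)) with
        | ⊥ => exact bot_le
        | (m : ℕ∞) =>
          rw [h5] at h3
          have h4 : m < 1 := WithBot.coe_lt_coe.mp h3
          rw [Order.lt_one_iff.mp h4]
          exact le_rfl
      exact ((Groth.Agent.S0549.dvr_iff _).mpr ⟨hr, hd2⟩).2
    exact IsDiscreteValuationRing.RingEquivClass.isDiscreteValuationRing
      (IsLocalization.algEquiv p.primeCompl (V.presheaf.stalk (hU.fromSpec y))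
        (Localization.AtPrime p)).toRingEquiv
  infer_instance

/-- flatness over an affine open part of the base -/
theorem flat_of_dominant {V : Scheme.{u}} [IsIntegral V] {U : V.Opens} (hU : IsAffineOpen U) [Nonempty U]
    [IsDedekindDomain Γ(V, U)] {X Y : Scheme.{u}} (t : X ⟶ Y) [QuasiCompact t] [IsSchemeTheoreticallyDominant t]
    (h : Y ⟶ U) (p : X ⟶ Spec V.functionField) (w : t ≫ h ≫ U.ι = p ≫ V.fromSpecStalk (genericPoint V)) : Flat h := by
  have hfr : IsFractionRing Γ(V, U) V.functionField := functionField_isFractionRing_of_isAffineOpen V U hU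
  have hg : genericPoint V ∈ U := by
    obtain ⟨x⟩ := ‹Nonempty U›
    exact (genericPoint_specializes x.1).mem_open U.2 x.2
  have h1 : t ≫ (h ≫ hU.isoSpec.hom) =
      p ≫ Spec.map (CommRingCat.ofHom (algebraMap Γ(V, U) V.functionField)) := by
    rw [← cancel_mono hU.fromSpec]
    have h2 : hU.isoSpec.hom ≫ hU.fromSpec = U.ι := by
      rw [IsAffineOpen.fromSpec, Iso.hom_inv_id_assoc]
    have h3 : Spec.map (CommRingCat.ofHom (algebraMap Γ(V, U) V.functionField)) ≫ hU.fromSpec =
        V.fromSpecStalk (genericPoint V) := by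
      rw [← hU.fromSpecStalk_eq_fromSpecStalk hg]
      rfl
    rw [Category.assoc, Category.assoc, Category.assoc, h2, w]
    exact congrArg (fun z => p ≫ z) h3.symm
  have h4 := K491.Closure.flat_of_schemeDominant t (h ≫ hU.isoSpec.hom) p h1
  have h5 : h = (h ≫ hU.isoSpec.hom) ≫ hU.isoSpec.inv := by simp
  rw [h5]
  infer_instance

/-! ### projective space -/

section Proj

variable {n : ℕ} {R T S : Scheme.{u}}

noncomputable abbrev toPZ (n : ℕ) (S : Scheme.{u}) :
    CohB1.ProjSpaceOver n S ⟶ CohB1.ProjSpace n (ULift.{u} ℤ) :=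
  pullback.fst (CohB1.ProjSpace.toSpec n (ULift.{u} ℤ)) (specULiftZIsTerminal.from S)

set_option backward.isDefEq.respectTransparency false in
theorem projMap_toPZ (φ : T ⟶ S) : FGA.projMap n φ ≫ toPZ n S = toPZ n T := by
  simp [FGA.projMap, toPZ]

set_option backward.isDefEq.respectTransparency false in
theorem projMap_toBase (φ : T ⟶ S) :
    FGA.projMap n φ ≫ CohB1.ProjSpaceOver.toBase n S = CohB1.ProjSpaceOver.toBase n T ≫ φ := by
  simp [FGA.projMap, CohB1.ProjSpaceOver.toBase]

theorem isPullback_projMap (φ : T ⟶ S) :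
    IsPullback (FGA.projMap n φ) (CohB1.ProjSpaceOver.toBase n T) (CohB1.ProjSpaceOver.toBase n S) φ := by
  have h1 : IsPullback (toPZ n S) (CohB1.ProjSpaceOver.toBase n S)
      (CohB1.ProjSpace.toSpec n (ULift.{u} ℤ)) (specULiftZIsTerminal.from S) :=
    IsPullback.of_hasPullback _ _
  have h2 : IsPullback (FGA.projMap n φ ≫ toPZ n S) (CohB1.ProjSpaceOver.toBase n T)
      (CohB1.ProjSpace.toSpec n (ULift.{u} ℤ)) (φ ≫ specULiftZIsTerminal.from S) := by
    rw [projMap_toPZ, specULiftZIsTerminal.hom_ext (φ ≫ specULiftZIsTerminal.from S)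
      (specULiftZIsTerminal.from T)]
    exact IsPullback.of_hasPullback _ _
  exact IsPullback.of_right h2 (projMap_toBase φ) h1

theorem projMap_comp (ψ : R ⟶ T) (φ : T ⟶ S) :
    FGA.projMap n (ψ ≫ φ) = FGA.projMap n ψ ≫ FGA.projMap n φ := by
  have h1 : IsPullback (toPZ n S) (CohB1.ProjSpaceOver.toBase n S)
      (CohB1.ProjSpace.toSpec n (ULift.{u} ℤ)) (specULiftZIsTerminal.from S) :=
    IsPullback.of_hasPullback _ _
  apply h1.hom_ext
  · rw [Category.assoc, projMap_toPZ, projMap_toPZ, projMap_toPZ]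
  · rw [Category.assoc, projMap_toBase, projMap_toBase, ← Category.assoc, ← Category.assoc,
      projMap_toBase]

end Proj

/-! ### dimension of the total space -/

/-- `Y → V` flat with `V` integral of dimension at most one, `X → Y` a flat monomorphism onto the points over the
generic point, with local rings of `X` of dimension at most one: regular points of `Y` have dimension at most two. -/
theorem dim_le_two {V Y X : Scheme.{u}} [IsIntegral V] [IsLocallyNoetherian V] (hdimV : topologicalKrullDim V ≤ 1)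
    (h : Y ⟶ V) [Flat h] (p : X ⟶ Y) [Flat p] [Mono p] (hp : ∀ y : Y, h y = genericPoint V → ∃ x, p x = y)
    (hX : ∀ x : X, ringKrullDim (X.presheaf.stalk x) ≤ 1) (y : Y) (hy : IsRegularLocalRing (Y.presheaf.stalk y)) :
    ringKrullDim (Y.presheaf.stalk y) ≤ 2 := by
  have key : ∀ z : Y, h z = genericPoint V → ringKrullDim (Y.presheaf.stalk z) ≤ 1 := by
    intro z hz
    obtain ⟨x, rfl⟩ := hp z hz
    have hi := Groth.Agent.Dix.FlatMonoStalk.isIso_stalkMap_of_flat_of_mono p x
    rw [ringKrullDim_eq_of_ringEquiv (asIso (p.stalkMap x)).commRingCatIsoToRingEquiv]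
    exact hX x
  by_cases hgen : h y = genericPoint V
  · exact (key y hgen).trans (by norm_num)
  have hdom : IsDomain (Y.presheaf.stalk y) := Groth.Agent.S0558.result _
  -- the local ring of `V` is not a field
  have hdV : ringKrullDim (V.presheaf.stalk (h y)) ≤ 1 :=
    (Groth.Agent.Models2.CodimStalk.ringKrullDim_stalk_le V _).trans hdimV
  have hone := Ring.krullDimLE_one_iff_of_noZeroDivisors.mp (Ring.krullDimLE_iff.mpr hdV)
  -- a prime of the local ring which is zero gives the generic point
  have hzero : ∀ q : Spec (V.presheaf.stalk (h y)), q.asIdeal = ⊥ →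
      V.fromSpecStalk (h y) q = genericPoint V := by
    intro q hq
    have h1 : genericPoint V ∈ Set.range (V.fromSpecStalk (h y)) := by
      rw [Scheme.range_fromSpecStalk]
      exact genericPoint_specializes _
    obtain ⟨q0, hq0⟩ := h1
    have h2 : q ⤳ q0 := by
      refine (PrimeSpectrum.le_iff_specializes (R := V.presheaf.stalk (h y)) q q0).mp ?_
      change q.asIdeal ≤ q0.asIdeal
      rw [hq]
      exact bot_le
    have h3 := h2.map (V.fromSpecStalk (h y)).continuous
    rw [hq0] at h3
    exact (h3.antisymm (genericPoint_specializes _)).eq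
  have hπ : ∃ π : V.presheaf.stalk (h y), π ≠ 0 ∧ π ∈ maximalIdeal (V.presheaf.stalk (h y)) := by
    by_contra hcon
    push Not at hcon
    apply hgen
    have h1 : maximalIdeal (V.presheaf.stalk (h y)) = ⊥ := by
      rw [eq_bot_iff]
      intro x hx
      by_contra hne
      exact hcon x hne hx
    have h2 := hzero (closedPoint (V.presheaf.stalk (h y))) h1
    rwa [Scheme.fromSpecStalk_closedPoint] at h2
  obtain ⟨π, hπ0, hπm⟩ := hπ
  have hfl : (h.stalkMap y).hom.Flat := Flat.stalkMap h y
  refine ringKrullDim_le_two ((h.stalkMap y).hom π) ?_ ?_ ?_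
  · intro h0
    let _ := (h.stalkMap y).hom.toAlgebra
    have hfl' : Module.Flat (V.presheaf.stalk (h y)) (Y.presheaf.stalk y) := hfl
    have h1 : IsSMulRegular (V.presheaf.stalk (h y)) π := by
      rw [isSMulRegular_iff_right_eq_zero_of_smul]
      intro y hy
      exact (mul_eq_zero.mp hy).resolve_left hπ0
    have h2 : IsSMulRegular (Y.presheaf.stalk y) (algebraMap (V.presheaf.stalk (h y)) (Y.presheaf.stalk y) π) :=
      h1.of_flat
    have h3 : algebraMap (V.presheaf.stalk (h y)) (Y.presheaf.stalk y) π = 0 := h0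
    rw [h3, isSMulRegular_iff_right_eq_zero_of_smul] at h2
    exact one_ne_zero (h2 1 (zero_smul _ _))
  · exact IsLocalRing.map_maximalIdeal_le (h.stalkMap y).hom (Ideal.mem_map_of_mem _ hπm)
  · intro q hq hπq
    have h1 := height_le_ringKrullDim_stalk y (⟨q, hq⟩ : Spec (Y.presheaf.stalk y))
    have h2 : h (Y.fromSpecStalk y ⟨q, hq⟩) = genericPoint V := by
      have h3 : h (Y.fromSpecStalk y ⟨q, hq⟩) =
          V.fromSpecStalk (h y) (Spec.map (h.stalkMap y) (⟨q, hq⟩ : Spec (Y.presheaf.stalk y))) := by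
        rw [← Scheme.Hom.comp_apply, ← Scheme.Hom.comp_apply, Scheme.SpecMap_stalkMap_fromSpecStalk]
      rw [h3]
      apply hzero
      by_contra hne
      have h4 := hone _ hne (Spec.map (h.stalkMap y) (⟨q, hq⟩ : Spec (Y.presheaf.stalk y))).isPrime
      apply hπq
      have h5 : π ∈ (Spec.map (h.stalkMap y) (⟨q, hq⟩ : Spec (Y.presheaf.stalk y))).asIdeal := by
        rw [IsLocalRing.eq_maximalIdeal h4]
        exact hπm
      exact h5
    exact WithBot.coe_le_coe.mp (h1.trans (key _ h2))

/-! ### the closure -/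

/-- (SP2) -/
theorem exists_regular_closure {V : Scheme.{u}} [IsIntegral V] [IsNoetherian V]
    (hreg : ∀ s : V, IsRegularLocalRing (V.presheaf.stalk s)) (hdimV : topologicalKrullDim V ≤ 1)
    (hexc : ∀ U : V.affineOpens, EGA4.IsExcellent Γ(V, U)) {L : Type u} [Field L] (η : Spec (CommRingCat.of L) ⟶ V)
    (hη : ∃ e : Spec (CommRingCat.of L) ≅ Spec V.functionField, η = e.hom ≫ V.fromSpecStalk (genericPoint V))
    {X : Scheme.{u}} (f : X ⟶ Spec (CommRingCat.of L)) {n : ℕ}
    (i : X ⟶ CohB1.ProjSpaceOver n (Spec (CommRingCat.of L))) [IsClosedImmersion i]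
    (hi : i ≫ CohB1.ProjSpaceOver.toBase n _ = f) (hX : ∀ x : X, IsRegularLocalRing (X.presheaf.stalk x))
    (hdim : ∀ W ∈ irreducibleComponents (X : Type u), topologicalKrullDim W = 1) :
    ∃ (V' : V.Opens) (η' : Spec (CommRingCat.of L) ⟶ V') (Y : Scheme.{u}) (h : Y ⟶ V')
      (k : Y ⟶ CohB1.ProjSpaceOver n V') (p : X ⟶ Y), η' ≫ V'.ι = η ∧ IsClosedImmersion k ∧
      k ≫ CohB1.ProjSpaceOver.toBase n V' = h ∧ Flat h ∧ IsPullback p f h η' ∧
      ∀ y : Y, IsRegularLocalRing (Y.presheaf.stalk y) ∧ ringKrullDim (Y.presheaf.stalk y) ≤ 2 := by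
  obtain ⟨e, he⟩ := hη
  have hfs := flat_fromSpecStalk V (genericPoint V)
  have hflat : Flat η := by rw [he]; infer_instance
  have hmono : Mono η := by rw [he]; infer_instance
  have hqc : QuasiCompact η := inferInstance
  have hηg : ∀ s, η s = genericPoint V := by
    intro s
    have h1 : η s ∈ Set.range (V.fromSpecStalk (genericPoint V)) := by
      rw [he]
      exact ⟨e.hom s, rfl⟩
    rw [Scheme.range_fromSpecStalk] at h1
    exact (Specializes.antisymm h1 (genericPoint_specializes _)).eq
  -- the closure over `V`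
  let j : X ⟶ CohB1.ProjSpaceOver n V := i ≫ FGA.projMap n η
  have hP := isPullback_projMap (n := n) η
  have hj : j ≫ CohB1.ProjSpaceOver.toBase n V = f ≫ η := by
    rw [← hi, Category.assoc, Category.assoc, hP.w]
  have hci : IsClosedImmersion (pullback.lift j f hj) := by
    have h1 : pullback.lift j f hj = i ≫ hP.isoPullback.hom := by
      apply pullback.hom_ext
      · rw [pullback.lift_fst, Category.assoc, hP.isoPullback_hom_fst]
      · rw [pullback.lift_snd, Category.assoc, hP.isoPullback_hom_snd, hi]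
    rw [h1]
    infer_instance
  have hsq0 := K491.Closure.isPullback_image η (CohB1.ProjSpaceOver.toBase n V) f j hj
  have hqcj : QuasiCompact j := by
    rw [← pullback.lift_fst j f hj]
    infer_instance
  let h0 : j.image ⟶ V := j.imageι ≫ CohB1.ProjSpaceOver.toBase n V
  have hpb := Groth.Agent.Ega3B.ProjProper.isProper_toBase n V
  have hprop : IsProper h0 := inferInstanceAs (IsProper (j.imageι ≫ CohB1.ProjSpaceOver.toBase n V))
  have hflatj : Flat j.toImage := MorphismProperty.of_isPullback (P := @Flat) hsq0.flip hflat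
  have hmonoj : Mono j.toImage := (MorphismProperty.monomorphisms.iff _).mp
    (MorphismProperty.of_isPullback (P := MorphismProperty.monomorphisms _) hsq0.flip
      ((MorphismProperty.monomorphisms.iff _).mpr hmono))
  have hover : ∀ y : j.image, h0 y = genericPoint V → ∃ x, j.toImage x = y := by
    intro y hy
    obtain ⟨x, hx, -⟩ := Scheme.exists_preimage_of_isPullback hsq0 y
      (closedPoint L : PrimeSpectrum L) (by
        change h0 y = η _
        rw [hy, hηg])
    exact ⟨x, hx⟩
  -- the non-regular points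
  let Z : Set j.image := {y | IsRegularLocalRing (j.image.presheaf.stalk y)}ᶜ
  have hZ : IsClosed Z := (isOpen_reg hexc h0).isClosed_compl
  have hZ' : IsClosed (h0 '' Z) := h0.isClosedMap _ hZ
  have hgZ : genericPoint V ∈ (h0 '' Z)ᶜ := by
    rintro ⟨y, hy, hyg⟩
    obtain ⟨x, rfl⟩ := hover y hyg
    apply hy
    have hi := Groth.Agent.Dix.FlatMonoStalk.isIso_stalkMap_of_flat_of_mono j.toImage x
    have := hX x
    exact IsRegularLocalRing.of_ringEquiv (asIso (j.toImage.stalkMap x)).commRingCatIsoToRingEquiv.symm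
  obtain ⟨U, hU, hgU, hUZ⟩ : ∃ U : V.Opens, IsAffineOpen U ∧ genericPoint V ∈ U ∧ (U : Set V) ⊆ (h0 '' Z)ᶜ := by
    obtain ⟨_, ⟨U, hU, rfl⟩, hgU, hUZ⟩ :=
      V.isBasis_affineOpens.exists_subset_of_mem_open hgZ hZ'.isOpen_compl
    exact ⟨U, hU, hgU, hUZ⟩
  have hne : Nonempty U := ⟨⟨_, hgU⟩⟩
  have hDD := isDedekindDomain hreg hdimV hU
  let η' : Spec (CommRingCat.of L) ⟶ U := IsOpenImmersion.lift U.ι η (by
    rintro _ ⟨s, rfl⟩
    rw [hηg, Scheme.Opens.range_ι]
    exact hgU)
  have hη' : η' ≫ U.ι = η := IsOpenImmersion.lift_fac _ _ _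
  -- the closure over `U`
  let Y : Scheme.{u} := pullback j.imageι (FGA.projMap n U.ι)
  let b : Y ⟶ j.image := pullback.fst _ _
  let k : Y ⟶ CohB1.ProjSpaceOver n U := pullback.snd _ _
  have hk : IsClosedImmersion k := inferInstanceAs (IsClosedImmersion (pullback.snd _ _))
  let h : Y ⟶ U := k ≫ CohB1.ProjSpaceOver.toBase n U
  have hsq1 : IsPullback b h h0 U.ι :=
    IsPullback.paste_vert (IsPullback.of_hasPullback _ _) (isPullback_projMap (n := n) U.ι)
  have hbo : IsOpenImmersion b := MorphismProperty.of_isPullback (P := @IsOpenImmersion) hsq1.flip inferInstance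
  let p : X ⟶ Y := pullback.lift j.toImage (i ≫ FGA.projMap n η') (by
    rw [Scheme.Hom.toImage_imageι, Category.assoc, ← projMap_comp, hη'])
  have hpb' : p ≫ b = j.toImage := pullback.lift_fst _ _ _
  have hpk : p ≫ k = i ≫ FGA.projMap n η' := pullback.lift_snd _ _ _
  have hph : p ≫ h = f ≫ η' := by
    change p ≫ k ≫ _ = _
    rw [reassoc_of% hpk, (isPullback_projMap (n := n) η').w, reassoc_of% hi]
  have hsq2 : IsPullback p f h η' := by
    refine IsPullback.of_right ?_ hph hsq1
    rw [hpb', hη']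
    exact hsq0
  have hmη' : Mono η' := by
    have : Mono (η' ≫ U.ι) := by rw [hη']; exact hmono
    exact mono_of_mono η' U.ι
  have hpm : Mono p := (MorphismProperty.monomorphisms.iff _).mp
    (MorphismProperty.of_isPullback (P := MorphismProperty.monomorphisms _) hsq2.flip
      ((MorphismProperty.monomorphisms.iff _).mpr hmη'))
  -- schematic dominance
  have hsq3 : IsPullback (𝟙 X) p j.toImage b := by
    refine ⟨⟨by rw [Category.id_comp, hpb']⟩, ⟨PullbackCone.IsLimit.mk _ (fun s => s.fst) ?_ ?_ ?_⟩⟩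
    · intro s; simp
    · intro s
      rw [← cancel_mono b, Category.assoc, hpb', s.condition]
    · intro s m h1 h2
      simpa using h1
  have hdj : IsSchemeTheoreticallyDominant j.toImage := Groth.Agent.Sga3C.SchemImage.dominant_toImage j
  have hqct : QuasiCompact j.toImage := MorphismProperty.of_isPullback (P := @QuasiCompact) hsq0.flip hqc
  have hdp : IsSchemeTheoreticallyDominant p := .of_isPullback hsq3
  have hqcp : QuasiCompact p := MorphismProperty.of_isPullback (P := @QuasiCompact) hsq3 hqct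
  have hfh : Flat h := flat_of_dominant hU p h (f ≫ e.hom) (by
    rw [reassoc_of% hph, hη', Category.assoc, ← he])
  have hfp : Flat p := by
    have h1 : Flat η' := by
      have h2 : Flat (η' ≫ U.ι) := by rw [hη']; exact hflat
      exact MorphismProperty.of_postcomp (W := @Flat) (W' := @IsOpenImmersion) _ _ inferInstance h2
    exact MorphismProperty.of_isPullback (P := @Flat) hsq2.flip h1
  refine ⟨U, η', Y, h, k, p, hη', hk, rfl, hfh, hsq2, fun y => ?_⟩
  have hr : IsRegularLocalRing (Y.presheaf.stalk y) := by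
    rw [← stalk_openImmersion_iff b]
    by_contra hcon
    have h1 : h0 (b y) ∈ (U : Set V) := by
      rw [← Scheme.Hom.comp_apply, hsq1.w]
      exact (h y).2
    exact hUZ h1 ⟨b y, hcon, rfl⟩
  refine ⟨hr, ?_⟩
  refine dim_le_two hdimV (h ≫ U.ι) p (fun y hy => ?_) (stalk_le_one hX hdim) y hr
  obtain ⟨x, hx, -⟩ := Scheme.exists_preimage_of_isPullback hsq2 y
    (closedPoint L : PrimeSpectrum L) (by
      apply U.ι.isOpenEmbedding.injective
      rw [← Scheme.Hom.comp_apply, ← Scheme.Hom.comp_apply, hy, hη', hηg])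
  exact ⟨x, hx⟩

end K268.RegClos
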